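import Groth.Agent.BunMod.K278.Limit
import Groth.Agent.BunMod.K885.Num

/-!
# Limits of sub-bundles: the numerical step on the special fibre (helper278)

`R` a discrete valuation ring, `V` of rank `r + m` and degree `m (g - 1)` on the fibres of a family of curves over `R` such
that the special fibre satisfies `χ(Hom(W, V / W)) ≥ -1` for all subbundles.  A limit `0 → S → V → Q → 0` of a sequence with
`S'` of rank `r` and degree `0` has `Q` locally free of rank `m`, and `S`, `Q` are semistable on the special fibre.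
-/

set_option autoImplicit false
universe u

open CategoryTheory CategoryTheory.Limits AlgebraicGeometry

namespace K278.Limit

open Groth.Agent Groth.Agent.VarietyA.DegRank K707.Base K707.Deg K707.Slope K707.Semi K325.GeomFib K885.Num

variable {R : Type u} [CommRing R] [IsDomain R] [IsDiscreteValuationRing R] {K : Type u} [Field K] [Algebra R K]
  [IsFractionRing R K] {Y Z : Scheme.{u}} {f : Y ⟶ Spec (CommRingCat.of R)} {i : Z ⟶ Y} [IsProper f] [Flat f]
  (hf : NCFam f) {V : Y.Modules} {S' Q' : Z.Modules} {j : S' ⟶ (Scheme.Modules.pullback i).obj V}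
  {π : (Scheme.Modules.pullback i).obj V ⟶ Q'} {r m : ℕ} (L : Lim f i V j π r)
  [Z.Over (Spec (CommRingCat.of K))]
  (H : IsPullback i (Z ↘ Spec (CommRingCat.of K)) f (Spec.map (CommRingCat.ofHom (algebraMap R K))))
  (hV : FlatMod.IsFinLocFreeOfRank (r + m) V) (hS' : Curv2.deg K Z S' r = 0)
  {Ω : Type u} [Field Ω] {P : Scheme.{u}} [P.Over (Spec (CommRingCat.of Ω))]
  {g' : P ⟶ Y} {t : Spec (CommRingCat.of Ω) ⟶ Spec (CommRingCat.of R)}
  (HP : IsPullback g' (P ↘ Spec (CommRingCat.of Ω)) f t)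
  (ht : t (IsLocalRing.closedPoint Ω) = IsLocalRing.closedPoint R)
  {g : ℕ} (hg : 2 ≤ g) (hχ : Curv2.euler Ω P (Coh.structureModule P) = 1 - (g : ℤ)) (hr : 1 ≤ r) (hm : 1 ≤ m)
  (hd : Curv2.deg Ω P ((Scheme.Modules.pullback g').obj V) (r + m) = m * ((g : ℤ) - 1))

/-- The special fibre of a limit of a subbundle of degree `0`. -/
structure Good (Ω : Type u) [Field Ω] {P : Scheme.{u}} [P.Over (Spec (CommRingCat.of Ω))] [IsIntegral P] (g' : P ⟶ Y)
    (L : Lim f i V j π r) (m g : ℕ) : Prop where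
  rankQ : FlatMod.IsFinLocFreeOfRank m L.Q
  ssS : SS Ω ((Scheme.Modules.pullback g').obj L.S)
  ssQ : SS Ω ((Scheme.Modules.pullback g').obj L.Q)
  degS : dg Ω ((Scheme.Modules.pullback g').obj L.S) = 0
  degQ : dg Ω ((Scheme.Modules.pullback g').obj L.Q) = m * ((g : ℤ) - 1)

include hf H hV hS' HP ht hg hχ hr hm hd in
theorem good_of_num [IsIntegral P] [IsProper (P ↘ Spec (CommRingCat.of Ω))]
    (hN : NumSub Ω ((Scheme.Modules.pullback g').obj V)) : Good Ω g' L m g := by
  have C : Crv Ω P := (hf HP).crv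
  have hVP := Groth.Agent.PerfB.FibreConc.isFinLocFreeOfRank_pullback g' hV
  have hrk : rk ((Scheme.Modules.pullback g').obj V) = r + m := rk_of_rank hVP
  have hdg : dg Ω ((Scheme.Modules.pullback g').obj V) = m * ((g : ℤ) - 1) := by rw [dg_of_rank Ω hVP, hd]
  have hSd : dg Ω ((Scheme.Modules.pullback g').obj L.S) = 0 := by
    rw [dg_of_rank Ω (L.rank_fib g'), L.deg_S HP H, hS']
  have hSr : rk ((Scheme.Modules.pullback g').obj L.S) = r := rk_of_rank (L.rank_fib g')
  have hex := L.exact_fib HP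
  have w : (Scheme.Modules.pullback g').map L.ι ≫ (Scheme.Modules.pullback g').map L.ρ = 0 := by
    rw [← Functor.map_comp, L.w, Functor.map_zero]
  have hex' : (ShortComplex.mk ((Scheme.Modules.pullback g').map L.ι) ((Scheme.Modules.pullback g').map L.ρ) w).ShortExact :=
    hex
  have hSc := isCoh_of_rank (L.rank_fib g')
  have hQc := L.coh_fib g'
  have hV' := isFinLocFree_of_rank hVP
  have h1 := vb_quot C hg hχ hV' hrk hdg hN hr hm _ _ w hex' hSc hSr hSd
  have h2 := ss_sub C hg hχ hV' hrk hdg hN hr hm _ _ w hex' hSc hSr hSd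
  have h3 := ss_quot C hg hχ hV' hrk hdg hN hr hm _ _ w hex' hSc hQc hSr hSd
  have h4 := rk_dg_quot C hg hχ hV' hrk hdg hN hr hm _ _ w hex' hSc hQc hSr hSd
  have h5 := L.rankQ HP ht h1 hf H hV
  rw [Nat.add_sub_cancel_left] at h5
  exact ⟨h5, h2, h3, hSd, h4.2⟩

end K278.Limit
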