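import Groth.Agent.BunMod.K278.LimNum
import Groth.Agent.BunMod.K890.Seed
import Groth.Agent.BunMod.K619.LocSS
import Groth.Agent.BunMod.K619.Adm
import Groth.Agent.VBCurve.K706.TensSS
import Groth.Agent.BunMod.K319.SumFam
import Groth.Agent.BunMod.K706.TensFam

/-!
# Limits of subbundles of members of the cokernel family (helper278)

`exists_subFam` : `R` a discrete valuation ring over `k` with fraction field `F` and a local homomorphism to a field `Ω`.
If the special fibre of `V_c` satisfies `χ(Hom(W, V / W)) ≥ -1` for all subbundles `W`, then every `SubFam` over `F` extends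
to a `SubFam` over `R`.
-/

set_option autoImplicit false
universe u

open CategoryTheory CategoryTheory.Limits AlgebraicGeometry

namespace K278.LimSub

open Groth.Agent Groth.Agent.VarietyA.DegRank K707.Base K707.Deg K707.Slope K707.Semi K325.GeomFib K885.Num
  K140.BM K890.KS K890.Seed K824.Join K278.Limit MonoidalCategory
open scoped Groth.Agent.Dcoh.MonCat

variable {k : Type u} [Field k] {X : Scheme.{u}} [X.Over (Spec (CommRingCat.of k))]

/-- `X_F` as a scheme over `F`. -/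
noncomputable abbrev ovr (k : Type u) [Field k] (X : Scheme.{u}) [X.Over (Spec (CommRingCat.of k))] (F : Type u)
    [Field F] [Algebra k F] : (PicF.XT (st k X) (SpA k F)).Over (Spec (CommRingCat.of F)) :=
  ⟨PicF.XTproj (st k X) (SpA k F)⟩

attribute [local instance] ovr

theorem isPullback_mA {A B : Type u} [CommRing A] [CommRing B] [Algebra k A] [Algebra k B] (φ : A →ₐ[k] B) :
    IsPullback (PicF.XTmap (st k X) (mA φ)) (PicF.XTproj (st k X) (SpA k B)) (PicF.XTproj (st k X) (SpA k A))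
      (Spec.map (CommRingCat.ofHom φ.toRingHom)) :=
  Groth.Agent.Picfga.HilbPull.isPullback_XTmap (st k X) (mA φ)

theorem isPullback_fst (F : Type u) [Field F] [Algebra k F] :
    IsPullback (pullback.fst (st k X) (SpA k F).hom)
      (PicF.XT (st k X) (SpA k F) ↘ Spec (CommRingCat.of F)) (st k X)
      (Spec.map (CommRingCat.ofHom (algebraMap k F))) :=
  IsPullback.of_hasPullback (st k X) (SpA k F).hom

theorem numSub_iso {Ω : Type u} [Field Ω] {P : Scheme.{u}} [P.Over (Spec (CommRingCat.of Ω))] [IsIntegral P]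
    {V V' : P.Modules} (I : V ≅ V') (h : NumSub Ω V) : NumSub Ω V' := by
  intro W Q i p w hex hW hQ h0 h1
  refine h W Q (i ≫ I.inv) (I.hom ≫ p) (by simp [w]) ?_ hW hQ h0 h1
  exact shortExact_cong hex I.symm (by simp [w])

/-- Exact pairings with isomorphic first terms. -/
theorem nonempty_iso_of_pairing {C : Type*} [Category* C] [MonoidalCategory C] {A A' B B' : C} (I : A ≅ A')
    (h : Nonempty (ExactPairing A B)) (h' : Nonempty (ExactPairing A' B')) : Nonempty (B ≅ B') := by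
  obtain ⟨h⟩ := h
  obtain ⟨h'⟩ := h'
  have h2 : ExactPairing A B' := exactPairingCongrLeft I
  exact ⟨rightDualIso h h2⟩

section SSB

variable [IsProper (X ↘ Spec (CommRingCat.of k))] [Smooth (X ↘ Spec (CommRingCat.of k))]
  [GeometricallyConnected (X ↘ Spec (CommRingCat.of k))]

omit [Smooth (X ↘ Spec (CommRingCat.of k))] [GeometricallyConnected (X ↘ Spec (CommRingCat.of k))] in
/-- The degree of an admissible family over a field. -/
theorem deg_of_ussOK {F : Type u} [Field F] [Algebra k F] {r : ℕ} {E : (PicF.XT (st k X) (SpA k F)).Modules}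
    (h : BunMod.ussOK (st k X) r 0 (SpA k F) E) : Curv2.deg F (PicF.XT (st k X) (SpA k F)) E r = 0 := by
  have : IsProper (PicF.XT (st k X) (SpA k F) ↘ Spec (CommRingCat.of F)) :=
    inferInstanceAs (IsProper (PicF.XTproj (st k X) (SpA k F)))
  let Fb := AlgebraicClosure F
  have hp := isPullback_mA (X := X) (IsScalarTower.toAlgHom k F Fb)
  have h1 := K319.SumFam.ssb_pl h (mA (IsScalarTower.toAlgHom k F Fb))
  have h2 := Groth.Agent.CurvesB.VABaseChange.deg_eq (k := F) (K := Fb) hp E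
    (isCoh_of_rank h.1).1 r
  rw [← h2]
  exact h1.2.1

omit [IsProper (X ↘ Spec (CommRingCat.of k))] [Smooth (X ↘ Spec (CommRingCat.of k))]
  [GeometricallyConnected (X ↘ Spec (CommRingCat.of k))] in
theorem ssb_transport {r : ℕ} {Ω : Type u} [Field Ω] {T : Over (B0 k)} (m : Spec (CommRingCat.of Ω) ⟶ T.left)
    {s' : Spec (CommRingCat.of Ω) ⟶ B0 k} (h : m ≫ T.hom = s') (E : (PicF.XT (st k X) T).Modules)
    (hss : SSB r s' (pl k X (Over.homMk m h : Over.mk s' ⟶ T) E)) :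
    SSB r (m ≫ T.hom) (pl k X (Over.homMk m rfl : Over.mk (m ≫ T.hom) ⟶ T) E) := by
  subst h
  exact hss

/-- Admissibility over a local ring, from the special fibre. -/
theorem ussOK_mA (hdim : topologicalKrullDim X = 1) {r : ℕ} (hr : 1 ≤ r) {R : Type u} [CommRing R] [IsLocalRing R]
    [IsNoetherianRing R] [Algebra k R] {Ω : Type u} [Field Ω] [Algebra k Ω] (ρ : R →ₐ[k] Ω) [IsLocalHom ρ.toRingHom]
    {E : (PicF.XT (st k X) (SpA k R)).Modules} (hE : FlatMod.IsFinLocFreeOfRank r E)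
    (hI : IsIntegral (PicF.XT (st k X) (SpA k Ω)))
    (h1 : SS Ω (pl k X (mA ρ) E)) (h2 : dg Ω (pl k X (mA ρ) E) = 0) :
    BunMod.ussOK (st k X) r 0 (SpA k R) E := by
  have hp : IsProper (PicF.XT (st k X) (SpA k Ω) ↘ Spec (CommRingCat.of Ω)) :=
    inferInstanceAs (IsProper (PicF.XTproj (st k X) (SpA k Ω)))
  have C : Crv Ω (PicF.XT (st k X) (SpA k Ω)) :=
    (NC.of_isPullback (f := st k X) hdim (isPullback_fst (X := X) Ω)).crv
  have h3 := PerfB.FibreConc.isFinLocFreeOfRank_pullback (PicF.XTmap (st k X) (mA ρ)) hE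
  have h4 : SSB r (SpA k Ω).hom (pl k X (mA ρ) E) :=
    ⟨h3, (dg_of_rank Ω h3).symm.trans h2, (ss_iff C h3).1 h1⟩
  exact K619.LocSS.ussOK_spec hdim hr (SpA k R).hom E hE ρ.toRingHom
    (ssb_transport (T := SpA k R) (Spec.map (CommRingCat.ofHom ρ.toRingHom)) (Over.w (mA ρ)) E h4)

end SSB

section Tw

open K757.Fam

variable {A : Type u} [CommRing A] [Algebra k A]

theorem cst_inv {N N' : X.Modules} (eN : Nonempty (CohB1.tensorMod N N' ≅ Coh.structureModule X)) :
    Nonempty (CohB1.tensorMod (K140.BM.cst k (SpA k A) N) (K140.BM.cst k (SpA k A) N') ≅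
      Coh.structureModule (PicF.XT (st k X) (SpA k A))) := by
  obtain ⟨e1⟩ := pull_tens (pullback.fst (st k X) (SpA k A).hom) N N'
  obtain ⟨e2⟩ := pull_congr (pullback.fst (st k X) (SpA k A).hom) eN
  obtain ⟨e3⟩ := pull_unit (pullback.fst (st k X) (SpA k A).hom)
  exact ⟨e1.symm ≪≫ e2 ≪≫ e3⟩

theorem tw_inv {N N' : X.Modules} (eN : Nonempty (CohB1.tensorMod N N' ≅ Coh.structureModule X))
    (Q : (PicF.XT (st k X) (SpA k A)).Modules) :
    Nonempty (CohB1.tensorMod (CohB1.tensorMod Q (K140.BM.cst k (SpA k A) N)) (K140.BM.cst k (SpA k A) N') ≅ Q) := by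
  obtain ⟨e1⟩ := tens_assoc Q (K140.BM.cst k (SpA k A) N) (K140.BM.cst k (SpA k A) N')
  obtain ⟨e2⟩ := tens_congr ⟨Iso.refl Q⟩ (cst_inv (A := A) eN)
  obtain ⟨e3⟩ := tens_unit Q
  exact ⟨e1 ≪≫ e2 ≪≫ e3⟩

end Tw

section Main

variable [IsProper (X ↘ Spec (CommRingCat.of k))] [Smooth (X ↘ Spec (CommRingCat.of k))]
  [GeometricallyConnected (X ↘ Spec (CommRingCat.of k))] (hdim : topologicalKrullDim X = 1)
  {g : ℕ} (hg : 2 ≤ g) (hχ : Curv2.euler k X (Coh.structureModule X) = 1 - (g : ℤ))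
  {N : X.Modules} (hN : PicF.IsInvertible N) (hNd : Curv2.deg k X N 1 = (g : ℤ) - 1)
  {r m : ℕ} (hr : 1 ≤ r) (hm : 1 ≤ m)
  {K G : X.Modules} {M : ℕ} (e : Fin M → (K ⟶ G))
  {R : Type u} [CommRing R] [IsDomain R] [IsDiscreteValuationRing R] [Algebra k R]
  {F : Type u} [Field F] [Algebra k F] [Algebra R F] [IsFractionRing R F] (ι : R →ₐ[k] F)
  (hι : ι.toRingHom = algebraMap R F)
  {Ω : Type u} [Field Ω] [Algebra k Ω] (ρ : R →ₐ[k] Ω) [IsLocalHom ρ.toRingHom]
  {c : Fin M → R} {cF : Fin M → F} (hcF : ∀ i, cF i = ι (c i)) {c₀ : Fin M → Ω} (hc₀ : ∀ i, c₀ i = ρ (c i))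
  (hV : FlatMod.IsFinLocFreeOfRank (r + m) (VA (k := k) e R c))
  (hd : Curv2.deg Ω (PicF.XT (st k X) (SpA k Ω)) (VA (k := k) e Ω c₀) (r + m) = m * ((g : ℤ) - 1))
  (hnum : ∀ _ : IsIntegral (PicF.XT (st k X) (SpA k Ω)), NumSub Ω (VA (k := k) e Ω c₀))

include hdim hg hχ hN hNd hr hm hι hcF hc₀ hV hd hnum

/-- **Limits of subbundles.** -/
theorem exists_subFam (s : SubFam k e F cF N r m) :
    ∃ s' : SubFam k e R c N r m, Nonempty (pl k X (mA ι) s'.E ≅ s.E) ∧ Nonempty (pl k X (mA ι) s'.F ≅ s.F) := by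
  have hsm : Smooth (PicF.XTproj (st k X) (SpA k R)) := inferInstance
  have hf : NCFam (PicF.XTproj (st k X) (SpA k R)) := ncFam_XT (st k X) hdim (SpA k R)
  have H : IsPullback (PicF.XTmap (st k X) (mA ι)) (PicF.XT (st k X) (SpA k F) ↘ Spec (CommRingCat.of F))
      (PicF.XTproj (st k X) (SpA k R)) (Spec.map (CommRingCat.ofHom (algebraMap R F))) := by
    have h := isPullback_mA (X := X) ι
    rwa [hι] at h
  have HP := isPullback_mA (X := X) ρ
  have HP' : IsPullback (PicF.XTmap (st k X) (mA ρ)) (PicF.XT (st k X) (SpA k Ω) ↘ Spec (CommRingCat.of Ω))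
      (PicF.XTproj (st k X) (SpA k R)) (Spec.map (CommRingCat.ofHom ρ.toRingHom)) := HP
  have ht : (Spec.map (CommRingCat.ofHom ρ.toRingHom)) (IsLocalRing.closedPoint Ω) = IsLocalRing.closedPoint R :=
    IsLocalRing.comap_closedPoint ρ.toRingHom
  have HΩ := isPullback_fst (k := k) (X := X) Ω
  obtain ⟨hPi, hPp, C⟩ := NC.of_isPullback (f := st k X) hdim HΩ
  have hPp' : IsProper (PicF.XT (st k X) (SpA k Ω) ↘ Spec (CommRingCat.of Ω)) := hPp
  have C' : Crv Ω (PicF.XT (st k X) (SpA k Ω)) := C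
  -- the sequence over `F`
  let I := bcI e ι c cF hcF
  let I₀ := bcI e ρ c c₀ hc₀
  have w : (s.i ≫ I.inv) ≫ I.hom ≫ s.p = 0 := by simp [s.w]
  have hex : (ShortComplex.mk (s.i ≫ I.inv) (I.hom ≫ s.p) w).ShortExact := shortExact_cong s.ex I.symm w
  obtain ⟨L⟩ := exists_lim (K := F) hf H hV _ _ w hex s.hS (isCoh_of_rank s.hQ)
  -- degrees
  have hSok : BunMod.ussOK (st k X) r 0 (SpA k F) s.S := by
    obtain ⟨hp⟩ := s.pair
    let _ : ExactPairing s.E s.S := K708.Dual.swapPairing s.S s.E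
    have h := K706.TensFam.ussOK_dual hdim s.okE s.S
    rwa [neg_zero] at h
  have hSd := deg_of_ussOK hSok
  have hVP := PerfB.FibreConc.isFinLocFreeOfRank_pullback (PicF.XTmap (st k X) (mA ρ)) hV
  have hχΩ : Curv2.euler Ω (PicF.XT (st k X) (SpA k Ω)) (Coh.structureModule _) = 1 - (g : ℤ) := by
    rw [← hχ]
    exact Groth.Agent.CurvesB.VABaseChange.euler_structure_eq (k := k) (K := Ω) HΩ
  have hd' : Curv2.deg Ω (PicF.XT (st k X) (SpA k Ω)) ((Scheme.Modules.pullback (PicF.XTmap (st k X) (mA ρ))).obj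
      (VA e R c)) (r + m) = m * ((g : ℤ) - 1) := by
    rw [← hd, ← dg_of_rank Ω hVP, dg_iso Ω I₀, dg_of_rank Ω (rank_iso I₀ hVP)]
  have good := good_of_num hf L H hV hSd HP' ht hg hχΩ hr hm hd' (numSub_iso I₀.symm (hnum hPi))
  -- the dual of `S`
  obtain ⟨E, hE, hSE⟩ := K708.Dual.exists_dual L.rankS
  have okS : BunMod.ussOK (st k X) r 0 (SpA k R) L.S := ussOK_mA hdim hr ρ L.rankS hPi good.ssS good.degS
  have okE : BunMod.ussOK (st k X) r 0 (SpA k R) E := by
    obtain ⟨hp⟩ := hSE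
    have h := K706.TensFam.ussOK_dual hdim okS E
    rwa [neg_zero] at h
  -- the twist of `Q`
  obtain ⟨hXi, hXp, CX⟩ := NC.of_isPullback (f := st k X) hdim
    (IsPullback.of_horiz_isIso ⟨by simp⟩ : IsPullback (𝟙 X) (st k X) (st k X) (𝟙 _))
  have CX' : Crv k X := CX
  obtain ⟨N', hN', eN, eN', hNd'⟩ := K708.PtTwist.exists_inv CX' hN
  have hcN' : PicF.IsInvertible (cst k (SpA k R) N') := K757.Fam.inv_pull _ hN'
  have hFR : FlatMod.IsFinLocFreeOfRank m (CohB1.tensorMod L.Q (cst k (SpA k R) N')) :=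
    K757.Geo.rank_tens good.rankQ hcN'
  have hiso : Nonempty (pl k X (mA ρ) (CohB1.tensorMod L.Q (cst k (SpA k R) N')) ≅
      CohB1.tensorMod (pl k X (mA ρ) L.Q) (cst k (SpA k Ω) N')) := by
    obtain ⟨e1⟩ := K757.Fam.pl_tens (f := st k X) (mA ρ) L.Q (cst k (SpA k R) N')
    obtain ⟨e2⟩ := K757.Fam.tens_congr ⟨Iso.refl (pl k X (mA ρ) L.Q)⟩ (K757.Fam.pl_cst (f := st k X) (mA ρ) N')
    exact ⟨e1 ≪≫ e2⟩
  have okF : BunMod.ussOK (st k X) m 0 (SpA k R) (CohB1.tensorMod L.Q (cst k (SpA k R) N')) := by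
    obtain ⟨e₁⟩ := hiso
    have hc : PicF.IsInvertible (cst k (SpA k Ω) N') := K757.Fam.inv_pull _ hN'
    have hQ1 := PerfB.FibreConc.isFinLocFreeOfRank_pullback (PicF.XTmap (st k X) (mA ρ)) good.rankQ
    refine ussOK_mA hdim hm ρ hFR hPi (K619.Adm.ss_iso e₁.symm ?_) ((dg_iso Ω e₁).trans ?_)
    · exact K706.Twist.ss_twist C' hc (isFinLocFree_of_rank hQ1) good.ssQ
    · have h1 : dg Ω (cst k (SpA k Ω) N') = - ((g : ℤ) - 1) := by
        rw [dg_of_rank Ω (K707.TensL.rank_one_iff.2 hc), ← hNd]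
        have h2 := Groth.Agent.CurvesB.VABaseChange.deg_eq (k := k) (K := Ω) HΩ N'
          (isCoh_of_rank (K707.TensL.rank_one_iff.2 hN')).1 1
        rw [← dg_of_rank k (K707.TensL.rank_one_iff.2 hN), ← hNd',
          dg_of_rank k (K707.TensL.rank_one_iff.2 hN')]
        exact h2
      have h3 := K707.TensL.dg_tensor Ω C'.dim (K707.TensL.rank_one_iff.2 hc) (isCoh_of_rank hQ1)
      rw [h3, h1, good.degQ, rk_of_rank hQ1]
      push_cast
      ring
  refine ⟨{ S := L.S, Q := L.Q, E := E, F := CohB1.tensorMod L.Q (cst k (SpA k R) N'), i := L.ι, p := L.ρ, w := L.w,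
            ex := L.ex, hS := L.rankS, hQ := good.rankQ, pair := hSE, tw := tw_inv eN' L.Q, okE := okE,
            okF := okF }, ?_, ?_⟩
  · refine nonempty_iso_of_pairing L.eS ?_ s.pair
    obtain ⟨h⟩ := hSE
    let _ := Dcoh.MonPull.monPull (PicF.XTmap (st k X) (mA ι))
    exact ⟨Dcoh.MonDual.mapExactPairing (Scheme.Modules.pullback (PicF.XTmap (st k X) (mA ι))) L.S E⟩
  · obtain ⟨e1⟩ := K757.Fam.pl_tens (f := st k X) (mA ι) L.Q (cst k (SpA k R) N')
    obtain ⟨e2⟩ := K757.Fam.tens_congr ⟨L.eQ⟩ (K757.Fam.pl_cst (f := st k X) (mA ι) N')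
    obtain ⟨e3⟩ := s.tw
    obtain ⟨e4⟩ := K757.Fam.tens_congr ⟨e3.symm⟩ ⟨Iso.refl (cst k (SpA k F) N')⟩
    obtain ⟨e5⟩ := tw_inv (A := F) eN s.F
    exact ⟨e1 ≪≫ e2 ≪≫ e4 ≪≫ e5⟩

end Main

end K278.LimSub
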