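import Groth.Agent.FDesc.K108.GenQuotOf
import Groth.Agent.BunMod.K619.RankFm
import Groth.Agent.TFOne.K975.Fam
import Groth.Agent.Models.DVRGeneric
import Groth.Agent.Desc.FinLocFreeSections
import Groth.Agent.BunMod.K325.FibLocFree
import Groth.Agent.BunMod.K890.KSDefs
import Groth.Agent.Picfga.HilbPull

/-!
# Limits of sub-bundles of a vector bundle on a family of curves over a discrete valuation ring (helper278)

`R` a discrete valuation ring with fraction field `K`, `f : Y ⟶ Spec R` a flat proper family of curves (`NCFam`), `i : Z ⟶ Y`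
its generic fibre, `V` finite locally free on `Y`.

* `Lim f i V j π a` : a short exact sequence `0 → S → V → Q → 0` on `Y` with `S` locally free of rank `a` and `Q` coherent and
  `R`-flat, extending a given one `0 → S' → V_Z → Q' → 0`;
* `exists_lim` : it exists;
* `Lim.exact_fib`, `Lim.dg_fib`, `Lim.rk_fib`, `Lim.dg_fib_Q` : the fibres and their numbers;
* `Lim.rankQ` : `Q` is locally free if its special fibre is.
-/

set_option autoImplicit false
universe u

open CategoryTheory CategoryTheory.Limits AlgebraicGeometry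

namespace K278.Limit

open Groth.Agent Groth.Agent.VarietyA.DegRank K707.Base K707.Deg K707.Slope K707.Semi K325.GeomFib

/-- A family of curves: all field-valued fibres are integral proper curves with principal local rings. -/
def NCFam {Y T : Scheme.{u}} (f : Y ⟶ T) : Prop :=
  ∀ {Ω : Type u} [Field Ω] {P : Scheme.{u}} {g' : P ⟶ Y} {q : P ⟶ Spec (CommRingCat.of Ω)}
    {t : Spec (CommRingCat.of Ω) ⟶ T}, IsPullback g' q f t → NC q

theorem ncFam_of_field {k : Type u} [Field k] {X : Scheme.{u}} (f : X ⟶ Spec (CommRingCat.of k)) [IsProper f] [Smooth f]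
    [GeometricallyConnected f] (hdim : topologicalKrullDim X = 1) {T : Scheme.{u}} (s : T ⟶ Spec (CommRingCat.of k))
    {Y : Scheme.{u}} {p : Y ⟶ X} {q : Y ⟶ T} (H : IsPullback p q f s) : NCFam q := by
  intro Ω _ P g' q' t H'
  exact NC.of_isPullback (f := f) hdim (H'.paste_horiz H)

theorem ncFam_XT {k : Type u} [Field k] {X : Scheme.{u}} (f : X ⟶ Spec (CommRingCat.of k)) [IsProper f] [Smooth f]
    [GeometricallyConnected f] (hdim : topologicalKrullDim X = 1) (T : Over (Spec (CommRingCat.of k))) :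
    NCFam (PicF.XTproj f T) :=
  ncFam_of_field f hdim T.hom (IsPullback.of_hasPullback f T.hom)

variable {R : Type u} [CommRing R] [IsDomain R] [IsDiscreteValuationRing R] {K : Type u} [Field K] [Algebra R K]
  [IsFractionRing R K] {Y Z : Scheme.{u}} {f : Y ⟶ Spec (CommRingCat.of R)} {i : Z ⟶ Y}
  {g : Z ⟶ Spec (CommRingCat.of K)}

section Gen

variable (H : IsPullback i g f (Spec.map (CommRingCat.ofHom (algebraMap R K))))

include H

theorem isOpenImmersion_i : IsOpenImmersion i := by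
  have := Groth.Agent.Models.DVRGeneric.isOpenImmersion_generic R K
  exact MorphismProperty.of_isPullback (P := @IsOpenImmersion) H.flip this

omit [IsDomain R] [IsDiscreteValuationRing R] [IsFractionRing R K] in
theorem quasiCompact_i : QuasiCompact i := by
  have : QuasiCompact (Spec.map (CommRingCat.ofHom (algebraMap R K))) := inferInstance
  exact MorphismProperty.of_isPullback (P := @QuasiCompact) H.flip this

omit [IsDiscreteValuationRing R] in
theorem f_i (z : Z) : f (i z) = genericPoint (Spec (CommRingCat.of R)) := by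
  rw [← Scheme.Hom.comp_apply, H.w, Scheme.Hom.comp_apply, genericPoint_eq_bot_of_affine]
  apply PrimeSpectrum.ext
  change Ideal.comap (algebraMap R K) (g z).asIdeal = ⊥
  rw [(Ideal.eq_bot_of_prime (g z).asIdeal)]
  exact (RingHom.injective_iff_ker_eq_bot _).mp (IsFractionRing.injective R K)

omit [IsDiscreteValuationRing R] in
theorem mem_range_i (y : Y) (hy : f y = genericPoint (Spec (CommRingCat.of R))) : y ∈ Set.range i := by
  have h1 : genericPoint (Spec (CommRingCat.of R)) ∈
      Set.range (Spec.map (CommRingCat.ofHom (algebraMap R K))) := by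
    refine ⟨IsLocalRing.closedPoint K, ?_⟩
    rw [genericPoint_eq_bot_of_affine]
    apply PrimeSpectrum.ext
    rw [K975.Fam.comap_closedPoint]
    exact (RingHom.injective_iff_ker_eq_bot _).mp (IsFractionRing.injective R K)
  obtain ⟨p, hp⟩ := h1
  obtain ⟨z, hz, -⟩ := Scheme.exists_preimage_of_isPullback H y p (by rw [hy, hp])
  exact ⟨z, hz⟩

omit [IsDiscreteValuationRing R] in
/-- The total space is irreducible. -/
theorem irreducibleSpace [Flat f] [LocallyOfFinitePresentation f] [IsIntegral Z] : IrreducibleSpace Y := by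
  have h1 : IsOpenMap f := f.isOpenMap
  have h2 : Dense ({genericPoint (Spec (CommRingCat.of R))} : Set (Spec (CommRingCat.of R))) := by
    rw [dense_iff_closure_eq]
    exact genericPoint_spec _
  have h3 : Dense (f ⁻¹' {genericPoint (Spec (CommRingCat.of R))}) := h2.preimage h1
  have h4 : f ⁻¹' {genericPoint (Spec (CommRingCat.of R))} = Set.range i := by
    ext y
    constructor
    · intro hy
      exact mem_range_i H y hy
    · rintro ⟨z, rfl⟩
      exact f_i H z
  rw [h4] at h3
  have h5 : IsIrreducible (Set.range i) := by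
    rw [← Set.image_univ]
    exact (IrreducibleSpace.isIrreducible_univ Z).image i i.continuous.continuousOn
  have h6 := h5.closure
  rw [h3.closure_eq] at h6
  exact irreducibleSpace_def _ |>.2 h6

end Gen

variable (f i) in
/-- A short exact sequence on `Y` extending `0 → S' → V_Z → Q' → 0`, with `S` locally free and `Q` flat over the base. -/
structure Lim (V : Y.Modules) {S' Q' : Z.Modules} (j : S' ⟶ (Scheme.Modules.pullback i).obj V)
    (π : (Scheme.Modules.pullback i).obj V ⟶ Q') (a : ℕ) where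
  S : Y.Modules
  Q : Y.Modules
  ι : S ⟶ V
  ρ : V ⟶ Q
  w : ι ≫ ρ = 0
  ex : (ShortComplex.mk ι ρ w).ShortExact
  rankS : FlatMod.IsFinLocFreeOfRank a S
  cohQ : Coh.IsCoh Q
  flatQ : FlatMod.IsFlatOver f Q
  eS : (Scheme.Modules.pullback i).obj S ≅ S'
  eQ : (Scheme.Modules.pullback i).obj Q ≅ Q'
  hS : (Scheme.Modules.pullback i).map ι = eS.hom ≫ j
  hQ : (Scheme.Modules.pullback i).map ρ ≫ eQ.hom = π

section Free

variable {T : Scheme.{u}} {f : Y ⟶ T}

/-- The fibres of kernels of surjections onto flat modules are locally free on families of curves. -/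
theorem vb_fib (hf : NCFam f) {S : ShortComplex Y.Modules} (hS : S.ShortExact)
    (h₁ : Coh.IsCoh S.X₁) {n : ℕ} (h₂ : FlatMod.IsFinLocFreeOfRank n S.X₂)
    (h₃ : FlatMod.IsFlatOver f S.X₃) {Ω : Type u} [Field Ω] {P : Scheme.{u}} {g' : P ⟶ Y}
    {q : P ⟶ Spec (CommRingCat.of Ω)} {t : Spec (CommRingCat.of Ω) ⟶ T} (HP : IsPullback g' q f t) :
    FlatMod.IsFinLocFree ((Scheme.Modules.pullback g').obj S.X₁) := by
  obtain ⟨h4, h5, h6⟩ := hf HP
  let _ : P.Over (Spec (CommRingCat.of Ω)) := ⟨q⟩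
  have : IsProper (P ↘ Spec (CommRingCat.of Ω)) := h5
  have hS' := Groth.Agent.Surf.K460.FlatExt.shortExact_pullback HP S hS h₃
  have hm : Mono ((Scheme.Modules.pullback g').map S.f) := hS'.mono_f
  exact vb_of_mono h6 ((Scheme.Modules.pullback g').map S.f)
    (Groth.Agent.FormalA.PullbackQC.isCoh_pullback _ _ h₁)
    (isFinLocFree_of_rank (Groth.Agent.PerfB.FibreConc.isFinLocFreeOfRank_pullback _ h₂))

/-- Kernels of surjections onto flat modules are locally free on families of curves. -/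
theorem free_stalk_sub [IsLocallyNoetherian Y] (hf : NCFam f) {S : ShortComplex Y.Modules} (hS : S.ShortExact)
    (h₁ : Coh.IsCoh S.X₁) {n : ℕ} (h₂ : FlatMod.IsFinLocFreeOfRank n S.X₂) (h₁f : FlatMod.IsFlatOver f S.X₁)
    (h₃ : FlatMod.IsFlatOver f S.X₃) (y : Y) : Module.Free (Y.presheaf.stalk y) (S.X₁.presheaf.stalk y) := by
  have hp : IsPullback (f.fiberι (f y)) (f.fiberToSpecResidueField (f y)) f
      (T.fromSpecResidueField (f y)) := IsPullback.of_hasPullback _ _
  have h7 := vb_fib (Ω := T.residueField (f y)) hf hS h₁ h₂ h₃ hp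
  have h4 : IsIntegral (f.fiber (f y)) := (hf (Ω := T.residueField (f y)) hp).int
  have h8 := K139.FibFree.free_stalk_of_free_fiber f h₁ h₁f (f y) (f.asFiber y)
    (free_stalk (isFinLocFreeOfRank_rk h7) _)
  rw [f.fiberι_asFiber] at h8
  exact h8

end Free

/-- Kernels of isomorphic quotients. -/
theorem exists_kernel_iso {C : Type*} [Category C] [Abelian C] {A₁ A₂ B Q₁ Q₂ : C} {f₁ : A₁ ⟶ B} {g₁ : B ⟶ Q₁}
    {w₁ : f₁ ≫ g₁ = 0} (h₁ : (ShortComplex.mk f₁ g₁ w₁).ShortExact) {f₂ : A₂ ⟶ B} {g₂ : B ⟶ Q₂} {w₂ : f₂ ≫ g₂ = 0}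
    (h₂ : (ShortComplex.mk f₂ g₂ w₂).ShortExact) (e : Q₁ ≅ Q₂) (he : g₁ ≫ e.hom = g₂) :
    ∃ d : A₁ ≅ A₂, f₁ = d.hom ≫ f₂ := by
  have hm₁ : Mono f₁ := h₁.mono_f
  have hm₂ : Mono f₂ := h₂.mono_f
  have w₃ : f₁ ≫ g₂ = 0 := by rw [← he, ← Category.assoc, w₁, zero_comp]
  have w₄ : f₂ ≫ g₁ = 0 := by
    rw [← cancel_mono e.hom, Category.assoc, he, w₂, zero_comp]
  obtain ⟨a, ha⟩ := KernelFork.IsLimit.lift' h₂.fIsKernel f₁ w₃
  obtain ⟨b, hb⟩ := KernelFork.IsLimit.lift' h₁.fIsKernel f₂ w₄
  change a ≫ f₂ = f₁ at ha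
  change b ≫ f₁ = f₂ at hb
  refine ⟨⟨a, b, ?_, ?_⟩, ha.symm⟩
  · rw [← cancel_mono f₁, Category.assoc, hb, ha, Category.id_comp]
  · rw [← cancel_mono f₂, Category.assoc, ha, hb, Category.id_comp]

section Exists

variable [IsProper f] [Flat f] (hf : NCFam f) (H : IsPullback i g f (Spec.map (CommRingCat.ofHom (algebraMap R K))))

include hf H

/-- **Limits exist.** -/
theorem exists_lim {n a : ℕ} {V : Y.Modules} (hV : FlatMod.IsFinLocFreeOfRank n V) {S' Q' : Z.Modules}
    (j : S' ⟶ (Scheme.Modules.pullback i).obj V) (π : (Scheme.Modules.pullback i).obj V ⟶ Q') (w : j ≫ π = 0)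
    (hex : (ShortComplex.mk j π w).ShortExact) (hS' : FlatMod.IsFinLocFreeOfRank a S') (hQ' : Coh.IsCoh Q') :
    Nonempty (Lim f i V j π a) := by
  have hio := isOpenImmersion_i H
  have hiq := quasiCompact_i H
  obtain ⟨hZi, hZp, hZc⟩ := hf H
  have hYn : IsLocallyNoetherian Y := LocallyOfFiniteType.isLocallyNoetherian f
  have hYi := irreducibleSpace H
  have hπ : Epi π := hex.epi_g
  have hVc := isCoh_of_rank hV
  obtain ⟨Q, ρ, eQ, hρ, hQ, hfl, hQe⟩ := K108.GenQuotOf.exists_quotient_of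
    (K108.GenQuotOf.stalk_dedekind R) f i i.isOpenEmbedding.isInducing
    (fun z => ((ConcreteCategory.isIso_iff_bijective (i.stalkMap z)).mp inferInstance).2) (f_i H)
    V hVc.1 Q' hQ'.1 π
  have hQc : Coh.IsCoh Q := ⟨hQ, Groth.Agent.CohqB.FiniteType.IsFT.of_epi hVc.2 ρ⟩
  have hex2 : (ShortComplex.mk (kernel.ι ρ) ρ (kernel.condition ρ)).ShortExact :=
    { exact := ShortComplex.exact_kernel ρ }
  have hSc : Coh.IsCoh (kernel ρ) := Groth.Agent.Sga67.CohBasic.isCoh_kernel _ hVc hQ
  have hSfl : FlatMod.IsFlatOver f (kernel ρ) := K619.RankFm.isFlatOver_X₁ f hex2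
    (K846.SSOpen.isFlatOver_of_rank f hV) hfl
  have hfree := free_stalk_sub hf hex2 hSc hV hSfl hfl
  have hrk := isFinLocFreeOfRank_of_free_stalk hSc hfree
  have hex3 := Groth.Agent.Surf.K460.FlatExt.shortExact_pullback H _ hex2 hfl
  obtain ⟨eS, heS⟩ := exists_kernel_iso hex3 hex eQ hQe
  have hra : rk (kernel ρ) = a := by
    have h1 := Groth.Agent.PerfB.FibreConc.isFinLocFreeOfRank_pullback i hrk
    rw [← rk_of_rank h1, rk_iso eS, rk_of_rank hS']
  rw [hra] at hrk
  exact ⟨⟨kernel ρ, Q, kernel.ι ρ, ρ, kernel.condition ρ, hex2, hrk, hQc, hfl, eS, eQ, heS, hQe⟩⟩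

end Exists

section Special

/-- Local freeness of the fibre in terms of one field-valued fibre. -/
theorem isFinLocFree_fiber {T : Scheme.{u}} {Y : Scheme.{u}} {f : Y ⟶ T} {Q : Y.Modules} (hQ : Coh.IsQCoh Q)
    {Ω : Type u} [Field Ω] {P : Scheme.{u}} {g' : P ⟶ Y} {q : P ⟶ Spec (CommRingCat.of Ω)}
    {t : Spec (CommRingCat.of Ω) ⟶ T} (HP : IsPullback g' q f t)
    (h : FlatMod.IsFinLocFree ((Scheme.Modules.pullback g').obj Q)) :
    FlatMod.IsFinLocFree ((Scheme.Modules.pullback (f.fiberι (t (IsLocalRing.closedPoint Ω)))).obj Q) := by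
  let s := t (IsLocalRing.closedPoint Ω)
  let m : Spec (CommRingCat.of Ω) ⟶ Spec (T.residueField s) :=
    Spec.map (T.descResidueField (Scheme.stalkClosedPointTo t))
  have hm : m ≫ T.fromSpecResidueField s = t :=
    Scheme.descResidueField_stalkClosedPointTo_fromSpecResidueField Ω T t
  have hp : IsPullback (f.fiberι s) (f.fiberToSpecResidueField s) f
      (T.fromSpecResidueField s) := IsPullback.of_hasPullback _ _
  let l : P ⟶ f.fiber s := hp.lift g' (q ≫ m) (by rw [Category.assoc, hm, HP.w])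
  have hl1 : l ≫ f.fiberι s = g' := hp.lift_fst _ _ _
  have hl2 : l ≫ f.fiberToSpecResidueField s = q ≫ m := hp.lift_snd _ _ _
  have hl : IsPullback l q (f.fiberToSpecResidueField s) m := by
    refine IsPullback.of_right (h₁₂ := f.fiberι s) (h₂₂ := T.fromSpecResidueField s) (v₁₃ := f) ?_ hl2 hp
    rw [hl1, hm]
    exact HP
  have i1 : Flat m := by
    rw [Flat.SpecMap_iff]
    algebraize [(T.descResidueField (Scheme.stalkClosedPointTo t)).hom]
    exact (inferInstance : Module.Flat (T.residueField s) Ω)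
  have i2 : Surjective m := ⟨fun x => ⟨IsLocalRing.closedPoint Ω, Subsingleton.elim (α := PrimeSpectrum (T.residueField s)) _ _⟩⟩
  have i3 : Flat l := MorphismProperty.of_isPullback (P := @Flat) hl.flip i1
  have i4 : Surjective l := MorphismProperty.of_isPullback (P := @Surjective) hl.flip i2
  have i5 : QuasiCompact l := MorphismProperty.of_isPullback (P := @QuasiCompact) hl.flip inferInstance
  have hqc : Coh.IsQCoh ((Scheme.Modules.pullback (f.fiberι s)).obj Q) :=
    Groth.Agent.FormalA.PullbackQC.isQCoh_pullback _ _ hQ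
  refine Groth.Agent.Desc.FinLocFreeSections.isFinLocFree_of_pullback l _ hqc ?_
  refine vb_iso ?_ h
  exact (Scheme.Modules.pullbackCongr hl1.symm).app Q ≪≫ ((Scheme.Modules.pullbackComp l (f.fiberι s)).app Q).symm

variable {R : Type u} [CommRing R] [IsLocalRing R] {Y : Scheme.{u}} {f : Y ⟶ Spec (CommRingCat.of R)} [IsProper f]

/-- A flat coherent module on a proper scheme over a local ring is locally free if its special fibre is. -/
theorem isFinLocFree_of_special [IsNoetherianRing R] {Q : Y.Modules} (hQ : Coh.IsCoh Q) (hfl : FlatMod.IsFlatOver f Q)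
    {Ω : Type u} [Field Ω]
    {P : Scheme.{u}} {g' : P ⟶ Y} {q : P ⟶ Spec (CommRingCat.of Ω)}
    {t : Spec (CommRingCat.of Ω) ⟶ Spec (CommRingCat.of R)} (HP : IsPullback g' q f t)
    (ht : t (IsLocalRing.closedPoint Ω) = IsLocalRing.closedPoint R)
    (h : FlatMod.IsFinLocFree ((Scheme.Modules.pullback g').obj Q)) : FlatMod.IsFinLocFree Q := by
  have hYn : IsLocallyNoetherian Y := LocallyOfFiniteType.isLocallyNoetherian f
  have h0 := isFinLocFree_fiber hQ.1 HP h
  rw [ht] at h0
  have h1 : ∀ y : Y, f y = IsLocalRing.closedPoint R → ∃ (V : Y.Opens) (n : ℕ), y ∈ V ∧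
      Nonempty (Q.restrict V.ι ≅ FlatMod.freeMod V n) := by
    intro y hy
    obtain ⟨z, rfl⟩ : y ∈ Set.range (f.fiberι (IsLocalRing.closedPoint R)) := by
      rw [f.range_fiberι]
      exact hy
    obtain ⟨h4, h5⟩ := Groth.Agent.Dcoh.StalkFF.FF_of_isFinLocFree h0 z
    exact Groth.Agent.Divis.StalkMod.exists_free_nhd hQ _
      (K139.FibFree.free_stalk_of_free_fiber f hQ hfl _ z h4)
  let U : Set Y := {x | ∃ (V : Y.Opens) (n : ℕ), x ∈ V ∧ Nonempty (Q.restrict V.ι ≅ FlatMod.freeMod V n)}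
  have hU : IsOpen U := isOpen_iff_forall_mem_open.2 fun x ⟨V, n, hx, e⟩ =>
    ⟨V, fun y hy => ⟨V, n, hy, e⟩, V.isOpen, hx⟩
  by_contra hcon
  have hne : (Uᶜ : Set Y).Nonempty := by
    by_contra hne
    rw [Set.not_nonempty_iff_eq_empty, Set.compl_empty_iff] at hne
    apply hcon
    intro x
    obtain ⟨V, n, hx, e⟩ : x ∈ U := hne ▸ Set.mem_univ x
    exact ⟨V, n, hx, e⟩
  have hcl : IsClosed (f '' Uᶜ) := f.isClosedMap _ hU.isClosed_compl
  obtain ⟨x, hx⟩ := hne
  have h2 : IsLocalRing.closedPoint R ∈ f '' Uᶜ :=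
    (IsLocalRing.specializes_closedPoint (f x)).mem_closed hcl ⟨x, hx, rfl⟩
  obtain ⟨y, hy, hy'⟩ := h2
  exact hy (h1 y hy')

end Special

namespace Lim

variable {V : Y.Modules} {S' Q' : Z.Modules} {j : S' ⟶ (Scheme.Modules.pullback i).obj V}
  {π : (Scheme.Modules.pullback i).obj V ⟶ Q'} {a : ℕ} (L : Lim f i V j π a)

section

variable {Ω : Type u} [Field Ω] {P : Scheme.{u}} {g' : P ⟶ Y} {q : P ⟶ Spec (CommRingCat.of Ω)}
  {t : Spec (CommRingCat.of Ω) ⟶ Spec (CommRingCat.of R)} (HP : IsPullback g' q f t)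

include HP

omit [IsDomain R] [IsDiscreteValuationRing R] in
/-- The restriction of the sequence to the fibres is exact. -/
theorem exact_fib : ((ShortComplex.mk L.ι L.ρ L.w).map (Scheme.Modules.pullback g')).ShortExact :=
  Groth.Agent.Surf.K460.FlatExt.shortExact_pullback HP _ L.ex L.flatQ

end

omit [IsDomain R] [IsDiscreteValuationRing R] in
theorem rank_fib {P : Scheme.{u}} (g' : P ⟶ Y) : FlatMod.IsFinLocFreeOfRank a ((Scheme.Modules.pullback g').obj L.S) :=
  Groth.Agent.PerfB.FibreConc.isFinLocFreeOfRank_pullback _ L.rankS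

omit [IsDomain R] [IsDiscreteValuationRing R] in
theorem coh_fib {P : Scheme.{u}} (g' : P ⟶ Y) : Coh.IsCoh ((Scheme.Modules.pullback g').obj L.Q) :=
  Groth.Agent.FormalA.PullbackQC.isCoh_pullback _ _ L.cohQ

omit [IsDomain R] [IsDiscreteValuationRing R] in
theorem flatS [Flat f] : FlatMod.IsFlatOver f L.S := K846.SSOpen.isFlatOver_of_rank f L.rankS

section Numbers

variable [IsProper f] {Ω : Type u} [Field Ω] {P : Scheme.{u}} [P.Over (Spec (CommRingCat.of Ω))]
  {g' : P ⟶ Y} {t : Spec (CommRingCat.of Ω) ⟶ Spec (CommRingCat.of R)}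
  (HP : IsPullback g' (P ↘ Spec (CommRingCat.of Ω)) f t) [Z.Over (Spec (CommRingCat.of K))]
  (H : IsPullback i (Z ↘ Spec (CommRingCat.of K)) f (Spec.map (CommRingCat.ofHom (algebraMap R K))))

include HP H

omit [IsFractionRing R K] in
theorem euler_structure [Flat f] :
    Curv2.euler Ω P (Coh.structureModule P) = Curv2.euler K Z (Coh.structureModule Z) := by
  have h1 : FlatMod.IsFinLocFreeOfRank 1 (Coh.structureModule Y) :=
    K707.TensL.rank_one_iff.2 Groth.Agent.Fdesc.LocGen.isInvertible_structureModule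
  have h3 := K975.Fam.euler_eq f (isCoh_of_rank h1) (K846.SSOpen.isFlatOver_of_rank f h1) HP H
  rwa [euler_iso Ω (Groth.Agent.FormalA.PullbackQC.pullbackUnitIso g'),
    euler_iso K (Groth.Agent.FormalA.PullbackQC.pullbackUnitIso i)] at h3

omit [IsFractionRing R K] in
theorem euler_S [Flat f] :
    Curv2.euler Ω P ((Scheme.Modules.pullback g').obj L.S) = Curv2.euler K Z S' := by
  rw [K975.Fam.euler_eq f (isCoh_of_rank L.rankS) L.flatS HP H]
  exact euler_iso K L.eS

omit [IsFractionRing R K] in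
theorem euler_Q :
    Curv2.euler Ω P ((Scheme.Modules.pullback g').obj L.Q) = Curv2.euler K Z Q' := by
  rw [K975.Fam.euler_eq f L.cohQ L.flatQ HP H]
  exact euler_iso K L.eQ

omit [IsFractionRing R K] in
/-- The degree of the fibres of `S`. -/
theorem deg_S [Flat f] :
    Curv2.deg Ω P ((Scheme.Modules.pullback g').obj L.S) a = Curv2.deg K Z S' a := by
  rw [Curv2.deg, Curv2.deg, L.euler_S HP H, euler_structure HP H]

end Numbers

section RankQ

variable [IsProper f] {n b : ℕ} {Ω : Type u} [Field Ω] {P : Scheme.{u}} {g' : P ⟶ Y}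
  {q : P ⟶ Spec (CommRingCat.of Ω)} {t : Spec (CommRingCat.of Ω) ⟶ Spec (CommRingCat.of R)} (HP : IsPullback g' q f t)
  (ht : t (IsLocalRing.closedPoint Ω) = IsLocalRing.closedPoint R)
  (h : FlatMod.IsFinLocFree ((Scheme.Modules.pullback g').obj L.Q))

include HP ht h

/-- `Q` is finite locally free if its special fibre is. -/
theorem locFreeQ : FlatMod.IsFinLocFree L.Q := isFinLocFree_of_special L.cohQ L.flatQ HP ht h

/-- The rank of `Q`. -/
theorem rankQ [Flat f] (hf : NCFam f) (H : IsPullback i g f (Spec.map (CommRingCat.ofHom (algebraMap R K))))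
    (hV : FlatMod.IsFinLocFreeOfRank n V) : FlatMod.IsFinLocFreeOfRank (n - a) L.Q := by
  obtain ⟨hPi, hPp, hPc⟩ := hf HP
  obtain ⟨hZi, hZp, hZc⟩ := hf H
  have hYi := irreducibleSpace H
  have h1 := isFinLocFreeOfRank_rk (L.locFreeQ HP ht h)
  let _ : P.Over (Spec (CommRingCat.of Ω)) := ⟨q⟩
  have : IsProper (P ↘ Spec (CommRingCat.of Ω)) := hPp
  have h2 := rk_add' Ω _ (L.exact_fib HP)
    (isCoh_of_rank (Groth.Agent.PerfB.FibreConc.isFinLocFreeOfRank_pullback g' hV))
  have h3 : rk ((Scheme.Modules.pullback g').obj V) = n :=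
    rk_of_rank (Groth.Agent.PerfB.FibreConc.isFinLocFreeOfRank_pullback g' hV)
  have h4 : rk ((Scheme.Modules.pullback g').obj L.S) = a := rk_of_rank (L.rank_fib g')
  have h5 : rk ((Scheme.Modules.pullback g').obj L.Q) = rk L.Q :=
    rk_of_rank (Groth.Agent.PerfB.FibreConc.isFinLocFreeOfRank_pullback g' h1)
  have h6 : n = a + rk L.Q := by
    have h8 : rk ((Scheme.Modules.pullback g').obj V) = rk ((Scheme.Modules.pullback g').obj L.S) +
      rk ((Scheme.Modules.pullback g').obj L.Q) := h2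
    rwa [h3, h4, h5] at h8
  have h7 : n - a = rk L.Q := by omega
  rw [h7]
  exact h1

end RankQ

end Lim

section XT

open K140.BM K890.KS

variable {k : Type u} [Field k] {X : Scheme.{u}} [X.Over (Spec (CommRingCat.of k))]

theorem isPullback_XT {A B : Type u} [CommRing A] [CommRing B] [Algebra k A] [Algebra k B] [Algebra A B]
    (ρ : SpA k B ⟶ SpA k A) (hρ : ρ.left = Spec.map (CommRingCat.ofHom (algebraMap A B))) :
    IsPullback (PicF.XTmap (st k X) ρ) (PicF.XTproj (st k X) (SpA k B)) (PicF.XTproj (st k X) (SpA k A))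
      (Spec.map (CommRingCat.ofHom (algebraMap A B))) := by
  have h := Groth.Agent.Picfga.HilbPull.isPullback_XTmap (st k X) ρ
  rwa [hρ] at h

/-- **Limits exist**, on `X_R` for a discrete valuation ring `R` over `k`. -/
theorem exists_lim_XT [IsProper (X ↘ Spec (CommRingCat.of k))] [Smooth (X ↘ Spec (CommRingCat.of k))]
    [GeometricallyConnected (X ↘ Spec (CommRingCat.of k))] (hdim : topologicalKrullDim X = 1)
    (R K : Type u) [CommRing R] [IsDomain R] [IsDiscreteValuationRing R] [Field K] [Algebra R K] [IsFractionRing R K]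
    [Algebra k R] [Algebra k K] (ρ : SpA k K ⟶ SpA k R)
    (hρ : ρ.left = Spec.map (CommRingCat.ofHom (algebraMap R K)))
    {n a : ℕ} {V : (PicF.XT (st k X) (SpA k R)).Modules} (hV : FlatMod.IsFinLocFreeOfRank n V)
    {S' Q' : (PicF.XT (st k X) (SpA k K)).Modules}
    (j : S' ⟶ pl k X ρ V) (π : pl k X ρ V ⟶ Q') (w : j ≫ π = 0)
    (hex : (ShortComplex.mk j π w).ShortExact) (hS' : FlatMod.IsFinLocFreeOfRank a S') (hQ' : Coh.IsCoh Q') :
    Nonempty (Lim (R := R) (PicF.XTproj (st k X) (SpA k R)) (PicF.XTmap (st k X) ρ) V j π a) := by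
  have h1 : Smooth (PicF.XTproj (st k X) (SpA k R)) := inferInstance
  exact exists_lim (K := K) (ncFam_XT (st k X) hdim (SpA k R)) (isPullback_XT ρ hρ) hV j π w hex hS' hQ'

end XT

end K278.Limit
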